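import Groth.Agent.AbProj57.Criterion
import Groth.Agent.S7795
import Groth.Agent.VarGal.SmoothReg
import Groth.Agent.RegUFD52.Basic
import Groth.Agent.Div89.UFD
import Groth.Agent.An92.Ample.Family
import Groth.Agent.Desc59.AmpleDesc
import Groth.Agent.Grp57.Unit
import Groth.Prelude.Def_Red2

/-!
Projectivity of abelian varieties, from the theorem of the square.
-/

set_option autoImplicit false
set_option backward.isDefEq.respectTransparency.types false
universe u

open CategoryTheory CategoryTheory.Limits MonoidalCategory CartesianMonoidalCategory MonObj AlgebraicGeometry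

noncomputable section

namespace Groth.Agent.AbProj57

variable {K : Type u} [Field K]

/-- An abelian variety has a line bundle with a section whose non-vanishing locus is affine and nonempty. -/
theorem exists_affine_genLocus (A : Over (Spec (CommRingCat.of K))) [GrpObj A] [IsProper A.hom]
    [GeometricallyIntegral A.hom] :
    ∃ (L : A.left.Modules) (s : Coh.structureModule A.left ⟶ L),
      PicF.IsInvertible L ∧ IsAffineOpen (CohB1.genLocus L s) ∧ (CohB1.genLocus L s : Set A.left).Nonempty := by
  have : IsIntegral A.left := GeometricallyIntegral.isIntegral_of_subsingleton A.hom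
  have : Smooth A.hom := S7795.result A
  have : IsLocallyNoetherian A.left := LocallyOfFiniteType.isLocallyNoetherian A.hom
  have : A.left.IsSeparated := ⟨by
    rw [← terminal.comp_from A.hom]
    infer_instance⟩
  obtain ⟨_, ⟨U, hU, rfl⟩, hxU, -⟩ :=
    A.left.isBasis_affineOpens.exists_subset_of_mem_open (Set.mem_univ (Grp57.unitPt A)) isOpen_univ
  have : Nonempty A.left := ⟨Grp57.unitPt A⟩
  have : IsAffine (U : Scheme.{u}) := hU
  have : IsAffineHom (Scheme.Opens.ι U) := MorphismProperty.of_postcomp (W := @IsAffineHom) (W' := @IsSeparated)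
    (Scheme.Opens.ι U) (terminal.from A.left) inferInstance inferInstance
  have hd : Dense (U : Set A.left) := U.2.dense ⟨_, hxU⟩
  obtain ⟨D, hD, hDsupp⟩ := Div89.exists_effCartier_compl U hd fun x _ => by
    have := VarGal.isRegularLocalRing_stalk_of_smooth A.hom x
    exact ⟨inferInstance, RegUFD52.ufm_of_regular _⟩
  obtain ⟨L, s, hL, hs⟩ := An92.AmpleFam.exists_genLocus_of_effCartier hD
  have hs' : CohB1.genLocus L s = U := TopologicalSpace.Opens.ext (by rw [hs, hDsupp, compl_compl])
  exact ⟨L, s, hL, hs' ▸ hU, hs' ▸ ⟨_, hxU⟩⟩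

/-- An abelian variety has an ample line bundle, given the theorem of the square over the algebraic closure. -/
theorem exists_isAmple_of_square (A : Over (Spec (CommRingCat.of K))) [GrpObj A] [IsProper A.hom]
    [GeometricallyIntegral A.hom]
    (hsq : ∀ (L : (Red.bc (Spec.map (CommRingCat.ofHom (algebraMap K (AlgebraicClosure K)))) A).left.Modules),
      PicF.IsInvertible L → SquareProp L) :
    ∃ L : A.left.Modules, CohB1.IsAmple L := by
  let t : Spec (CommRingCat.of (AlgebraicClosure K)) ⟶ Spec (CommRingCat.of K) :=
    Spec.map (CommRingCat.ofHom (algebraMap K (AlgebraicClosure K)))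
  have hflat : Flat t := by
    rw [HasRingHomProperty.Spec_iff (P := @Flat)]
    exact RingHom.flat_algebraMap_iff.2 (inferInstance : Module.Flat K _)
  have hs : Surjective t := ⟨fun _ => ⟨IsLocalRing.closedPoint _, Subsingleton.elim (α := PrimeSpectrum K) _ _⟩⟩
  let A' := Red.bc t A
  let π : A'.left ⟶ A.left := pullback.fst A.hom t
  have : IsProper A'.hom := MorphismProperty.pullback_snd (P := @IsProper) _ _ ‹_›
  have : GeometricallyIntegral A'.hom := MorphismProperty.pullback_snd (P := @GeometricallyIntegral) _ _ ‹_›
  have : IsIntegral A'.left := GeometricallyIntegral.isIntegral_of_subsingleton A'.hom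
  obtain ⟨L, s, hL, haff, hne⟩ := exists_affine_genLocus A
  have hL' := Amp73.isInvertible_pullback π hL
  have : IsAffineHom π := MorphismProperty.pullback_fst (P := @IsAffineHom) _ _ inferInstance
  have : Surjective π := MorphismProperty.pullback_fst (P := @Surjective) _ _ hs
  have h := isAmple_of_genLocus hL' (hsq _ hL') (Amp73.pullHom π s)
    (by rw [Amp73.genLocus_pullHom π hL]; exact haff.preimage π)
    (by
      rw [Amp73.genLocus_pullHom π hL]
      obtain ⟨u, hu⟩ := hne
      obtain ⟨v, rfl⟩ := π.surjective u
      exact ⟨v, hu⟩)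
  exact ⟨L, Desc59.AmpleDesc.isAmple_of_pullback A.hom (IsPullback.of_hasPullback A.hom t) hL h⟩

end Groth.Agent.AbProj57
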