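import Groth.Agent.Amp73.Ample
import Groth.Agent.Amp73.Pullback
import Groth.Agent.Amp73.PullTensor
import Groth.Agent.Var76.ActTrans

/-!
On a group variety satisfying the theorem of the square a line bundle with a section whose non-vanishing
locus is a nonempty affine open is ample.
-/

set_option autoImplicit false
set_option backward.isDefEq.respectTransparency.types false
universe u

open CategoryTheory CategoryTheory.Limits MonoidalCategory CartesianMonoidalCategory MonObj AlgebraicGeometry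

noncomputable section

namespace Groth.Agent.AbProj57

variable {K : Type u} [Field K] {A : Over (Spec (CommRingCat.of K))} [GrpObj A]

/-- right translation by a rational point -/
abbrev rTrans (a : 𝟙_ (Over (Spec (CommRingCat.of K))) ⟶ A) : A ⟶ A := 𝟙 A * (toUnit A ≫ a)

theorem comp_rTrans {T : Over (Spec (CommRingCat.of K))} (x : T ⟶ A) (a : 𝟙_ _ ⟶ A) :
    x ≫ rTrans a = x * (toUnit T ≫ a) := by
  rw [rTrans, MonObj.comp_mul, Category.comp_id, ← Category.assoc, comp_toUnit]

/-- The theorem of the square for a module. -/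
def SquareProp (L : A.left.Modules) : Prop :=
  ∀ a b : 𝟙_ (Over (Spec (CommRingCat.of K))) ⟶ A,
    Nonempty (CohB1.tensorMod ((Scheme.Modules.pullback (rTrans (a * b)).left).obj L) L ≅
      CohB1.tensorMod ((Scheme.Modules.pullback (rTrans a).left).obj L) ((Scheme.Modules.pullback (rTrans b).left).obj L))

theorem rTrans_one : rTrans (1 : 𝟙_ (Over (Spec (CommRingCat.of K))) ⟶ A) = 𝟙 A := by
  rw [rTrans, MonObj.comp_one, _root_.mul_one]

theorem inter_preimage_mem_genSet {L : A.left.Modules} (hL : PicF.IsInvertible L) (hsq : SquareProp L)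
    (s : Coh.structureModule A.left ⟶ L) (a : 𝟙_ _ ⟶ A) :
    (rTrans a).left ⁻¹ᵁ CohB1.genLocus L s ⊓ (rTrans a⁻¹).left ⁻¹ᵁ CohB1.genLocus L s ∈ Amp73.GenSet L := by
  obtain ⟨e⟩ := hsq a a⁻¹
  have h := Amp73.inf_mem_genSet_tensor (Amp73.isInvertible_pullback _ hL) (Amp73.isInvertible_pullback _ hL)
    (Amp73.mem_genSet_one (Amp73.pullHom (rTrans a).left s)) (Amp73.mem_genSet_one (Amp73.pullHom (rTrans a⁻¹).left s))
  rw [Amp73.genLocus_pullHom _ hL, Amp73.genLocus_pullHom _ hL] at h
  have e1 : (Scheme.Modules.pullback (rTrans (a * a⁻¹)).left).obj L ≅ L := by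
    rw [_root_.mul_inv_cancel, rTrans_one, Over.id_left]
    exact (Scheme.Modules.pullbackId A.left).app L
  have h2 := Amp73.mem_genSet_of_iso (e.inv ≫ (EGA73.tensIso (e1 ≪≫ (Amp73.powOne L).symm) (Iso.refl L)).hom) h
  exact Amp73.mem_genSet_of_tensorPow (N := 2) (by norm_num) h2

/-- Ampleness criterion. -/
theorem isAmple_of_genLocus [IsAlgClosed K] [LocallyOfFiniteType A.hom] [QuasiCompact A.hom] [IsSeparated A.hom]
    [IrreducibleSpace A.left] {L : A.left.Modules} (hL : PicF.IsInvertible L) (hsq : SquareProp L)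
    (s : Coh.structureModule A.left ⟶ L) (haff : IsAffineOpen (CohB1.genLocus L s))
    (hne : (CohB1.genLocus L s : Set A.left).Nonempty) : CohB1.IsAmple L := by
  have : CompactSpace A.left := QuasiCompact.compactSpace_of_compactSpace A.hom
  have : JacobsonSpace A.left := LocallyOfFiniteType.jacobsonSpace A.hom
  have : A.left.IsSeparated := ⟨by
    rw [← terminal.comp_from A.hom]
    infer_instance⟩
  set U := CohB1.genLocus L s
  have key : ∀ x : A.left, IsClosed ({x} : Set A.left) → ∃ G ∈ Amp73.GenSet L, x ∈ G ∧ IsAffineOpen G := by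
    intro x hx
    let σ := Var76.ActTrans.sec A x hx
    let T := (Var76.ActTrans.lTrans σ).hom
    let T' := (𝟙 A)⁻¹ ≫ T
    have hT : IsIso T.left := inferInstanceAs (IsIso ((Over.forget _).map T))
    have hinv : IsIso ((𝟙 A)⁻¹ : A ⟶ A) := ⟨⟨(𝟙 A)⁻¹, by simp [GrpObj.comp_inv], by simp [GrpObj.comp_inv]⟩⟩
    have hT' : IsIso T'.left := inferInstanceAs (IsIso ((Over.forget _).map ((𝟙 A)⁻¹ ≫ T)))
    have h1 : (T.left ⁻¹ᵁ U : Set A.left).Nonempty := by
      obtain ⟨u, hu⟩ := hne
      obtain ⟨v, rfl⟩ := T.left.surjective u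
      exact ⟨v, hu⟩
    have h2 : (T'.left ⁻¹ᵁ U : Set A.left).Nonempty := by
      obtain ⟨u, hu⟩ := hne
      obtain ⟨v, rfl⟩ := T'.left.surjective u
      exact ⟨v, hu⟩
    have h12 := nonempty_preirreducible_inter (T.left ⁻¹ᵁ U).2 (T'.left ⁻¹ᵁ U).2 h1 h2
    obtain ⟨g, ⟨hg1, hg2⟩, hg⟩ := nonempty_inter_closedPoints h12
      ((T.left ⁻¹ᵁ U).2.inter (T'.left ⁻¹ᵁ U).2).isLocallyClosed
    let τ := Var76.ActTrans.sec A g hg
    refine ⟨_, inter_preimage_mem_genSet hL hsq s τ, ⟨?_, ?_⟩, ?_⟩
    · have h : σ ≫ rTrans τ = τ ≫ T := by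
        rw [comp_rTrans, Var76.ActTrans.comp_lTrans, toUnit_unique (toUnit _) (𝟙 _), Category.id_comp,
          Category.id_comp]
      have h' := congr(($h).left (IsLocalRing.closedPoint K))
      rw [Over.comp_left, Over.comp_left, Scheme.Hom.comp_apply, Scheme.Hom.comp_apply,
        Var76.ActTrans.sec_apply, Var76.ActTrans.sec_apply] at h'
      show (rTrans τ).left x ∈ U
      rw [h']
      exact hg1
    · have h : σ ≫ rTrans τ⁻¹ = τ ≫ T' := by
        rw [comp_rTrans, show τ ≫ T' = (τ ≫ (𝟙 A)⁻¹) ≫ T from (Category.assoc _ _ _).symm,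
          show τ ≫ (𝟙 A)⁻¹ = τ⁻¹ by rw [GrpObj.comp_inv, Category.comp_id], Var76.ActTrans.comp_lTrans, toUnit_unique (toUnit _) (𝟙 _),
          Category.id_comp, Category.id_comp]
      have h' := congr(($h).left (IsLocalRing.closedPoint K))
      rw [Over.comp_left, Over.comp_left, Scheme.Hom.comp_apply, Scheme.Hom.comp_apply,
        Var76.ActTrans.sec_apply, Var76.ActTrans.sec_apply] at h'
      show (rTrans τ⁻¹).left x ∈ U
      rw [h']
      exact hg2
    · have hr : ∀ a, IsIso (rTrans (A := A) a).left := fun a => by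
        have : IsIso (rTrans (A := A) a) := ⟨⟨rTrans a⁻¹, by
          rw [comp_rTrans, rTrans, _root_.mul_assoc, ← MonObj.comp_mul, _root_.mul_inv_cancel, MonObj.comp_one,
            _root_.mul_one], by
          rw [comp_rTrans, rTrans, _root_.mul_assoc, ← MonObj.comp_mul, _root_.inv_mul_cancel, MonObj.comp_one,
            _root_.mul_one]⟩⟩
        exact inferInstanceAs (IsIso ((Over.forget _).map (rTrans a)))
      have := hr τ
      have := hr τ⁻¹
      exact (haff.preimage_of_isIso (rTrans τ).left).inf (haff.preimage_of_isIso (rTrans τ⁻¹).left)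
  refine Amp73.isAmple_iff.2 ⟨hL, inferInstance, fun y => ?_⟩
  obtain ⟨z, hz, hzc⟩ := IsClosed.exists_closed_singleton (S := closure ({y} : Set A.left)) isClosed_closure
    ⟨y, subset_closure rfl⟩
  obtain ⟨G, hG, hzG, haG⟩ := key z hzc
  exact ⟨G, hG, (specializes_iff_mem_closure.2 hz).mem_open G.2 hzG, haG⟩

end Groth.Agent.AbProj57
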